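import Cfsg.Agent.CosetEnum.MU35.BData

/-! Certificate of a coset enumeration (generated data, owner: helper7). -/

set_option autoImplicit false
set_option maxRecDepth 1000000

namespace Cfsg.Agent.CosetEnum.MU35B

def ck0 : CK := .cons 32 27 0x10088064001080859400076800403200320480014a8044008404200100c800c8870003ea00420210008024012ac0003b40084042420003740120010048024000090008004000080040044032000040220190000008000800400440044006400201900080040020010008004012011001100c800401201100c800002000200100110011001900080640020010008004002001004804400440320010048044032000088008800401200900022002200100480240024002009000800400200100080040080040020010008004 ( .cons 32 12 0x4940290000640650003da0032009004c38002c50008044012001000584001000584009010c0015e80040044218002be0048650003ba0010ca00075401201a0000dd00080240003761c000aa800262010802400200320190004840190008004032019000226800073403210c001168004052000440044001550084002019000900111200038a019042000894002019000220022000a88032001004806400008084042ac00031594000628084042ac0007d80020190019068000a19580006e80008004012ca00037400840420010048025580009e80001200100080001000800880640 ( .cons 27 3 0x100c80040120000080a4012011000000004002007800058a0215600057a0d00009681200025a009004c3800295000800400242000af41a0001ed001100c8120003da0090ca000a340021940014285600037a0012ca0006f40044d00013e9a0001450ac0006d4328001b50011120004ea240005142b0001dd0ac00075404300050a00100cbc00021d8700025a0009a8052000019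 ( .nil )))

theorem part0 : chunks P L 91 ck0 0 42 = true := by decide +kernel

end Cfsg.Agent.CosetEnum.MU35B
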