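import Cfsg.Agent.CosetEnum.MU35.CData

/-! Certificate of a coset enumeration (generated data, owner: helper7). -/

set_option autoImplicit false
set_option maxRecDepth 1000000

namespace Cfsg.Agent.CosetEnum.MU35C

def ck0 : CK := .cons 32 21 0x850044042019014bc00018e0ca0003740004012011000008800880440064d0000668004022ca0003340020003880024002021780003da0010088004000480002280088004000400201100c8001100190001000804400240120190000200220110048000b20001640002c80020002c80120002c80044012001001100c8024012000240120010001e4011008800480009000900010008000100002001001100480250c0006680040220114300009a00012800025002400200900880240024022001000800401200020000c800200100200100080040020010008004 ( .cons 32 15 0x19004802405201900480440010500020a01880020a10e000a3403200002020004040010108001100480240006180021a00c8000d48001f6000800400201900c80240420210005160007c80001f20003e40190148004000f90002aa0108044001550002aa01080a4052000a28000092100068a00100880640000bc00024d0008064000d50004000fd00008001fa0003f402100c8004022011008800012011a900020a000009080030d000744000e88001c900039b008800c800022f0000636a40007e80a50c000c680644380018d00080840018500030a004804400240001100c8001ea0003d40010003d40022000040020006400040530e000db400440420210001200900c800401200900c8000220015200035400640320210009a00018d ( .cons 32 8 0xcc38001ad005100002021004800403202900489000105120001fa21c000f6a18000c52100018b5200031409a0003ba0002000c880019100040019100032200064400321e0000fe8024092002204d00020d0208004800403201901480840420217800073b0e000e7668000dad48001b58700049a0111200051a000bc800034a0006940000002000a68004400029a00053403100080061c0017e806405200018d00000000a0800200020006400029200c8780006da02100480037a0006f40001bd00000de800040220390031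 ( .cons 25 6 0xc802402202100480240120010000840320000c800218001f5000064032029014808404200e20d00018680442b00030d9a00066a2a40019a800d0000fa8014804400000048000f6d480013d5600037aca0006f400680006d5e00014680a4002001008800c801080a40d2000ec8001d90000764000ec800a4002000e08022001202903089a0005db52000bb400a405200b2011010a1800395 ( .nil ))))

theorem part0 : chunks P L 121 ck0 0 50 = true := by decide +kernel

end Cfsg.Agent.CosetEnum.MU35C
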